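import Groth.Prelude.Def_EGA43
import Groth.Prelude.Def_MoreMor
import Groth.Prelude.Def_FDesc
import Groth.Agent.S0386
import Groth.Agent.S0435
import Groth.Agent.S1364
import Groth.Agent.S2561
import Groth.Agent.Ega43.UnivOpenAt
import Groth.Agent.Ega1.ReducedSub
import Groth.Agent.Flat2D.GeomFib
import Mathlib.AlgebraicGeometry.Noetherian

/-!
# The number of geometric connected components near a geometrically reduced fibre

* `exists_flat_nhd`: a proper morphism over a locally Noetherian reduced base, universally open along a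
  geometrically reduced fibre, is flat with geometrically reduced fibres over a neighbourhood of the base point.
* `const_nhd`: the number of geometric connected components is then constant near the base point (the
  base need not be reduced).
-/

set_option autoImplicit false
universe u
open CategoryTheory AlgebraicGeometry Limits

namespace Groth.Agent.Ega4fib.H137.ConstNhd

/-- Geometrically reduced schemes over a field are geometrically reduced at every point. -/
theorem isGeomReducedAt {k : Type u} [Field k] {X : Scheme.{u}} (f : X ⟶ Spec (CommRingCat.of k))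
    (h : GeometricallyReduced f) (x : X) : FBase.IsGeomReducedAt f x := by
  intro K _ _ x' _
  have : IsReduced (FBase.bc f K) :=
    h.geometrically_isReduced _ _ _ (IsPullback.of_hasPullback _ _)
  infer_instance

set_option backward.isDefEq.respectTransparency false in
/-- Flatness of the restriction over an open subset of the base, tested on stalks. -/
theorem flat_of_isPullback {X Y : Scheme.{u}} (f : X ⟶ Y) (V : Y.Opens)
    (h : ∀ x : X, f x ∈ V → (f.stalkMap x).hom.Flat) : Flat (pullback.snd f V.ι) := by
  have h1 : Flat (pullback.fst f V.ι ≫ f) := by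
    refine Flat.of_stalkMap _ fun x => ?_
    rw [Scheme.Hom.stalkMap_comp]
    have h2 : f (pullback.fst f V.ι x) ∈ V := by
      rw [← Scheme.Hom.comp_apply, pullback.condition, Scheme.Hom.comp_apply]
      exact (pullback.snd f V.ι x).2
    have h3 := h _ h2
    have h4 : ((pullback.fst f V.ι).stalkMap x).hom.Flat := Flat.stalkMap _ _
    exact RingHom.Flat.comp h3 h4
  rw [pullback.condition] at h1
  exact MorphismProperty.of_postcomp (W := @Flat) (W' := @IsOpenImmersion) _ V.ι inferInstance h1

/-- Geometric reducedness of a fibre is inherited by base change. -/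
theorem geometricallyReduced_fiber {X Y X' Y' : Scheme.{u}} {f : X ⟶ Y} {f' : X' ⟶ Y'} {g' : X' ⟶ X} {g : Y' ⟶ Y}
    (sq : IsPullback g' f' f g) (y' : Y') (h : GeometricallyReduced (f.fiberToSpecResidueField (g y'))) :
    GeometricallyReduced (f'.fiberToSpecResidueField y') :=
  MorphismProperty.of_isPullback (isPullback_fiberToSpecResidueField_of_isPullback sq y') h

theorem geometricallyReduced_of_fiber {X Y : Scheme.{u}} (f : X ⟶ Y)
    (h : ∀ y : Y, GeometricallyReduced (f.fiberToSpecResidueField y)) : GeometricallyReduced f := by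
  refine ⟨?_⟩
  rw [geometrically_iff_forall_fiberToSpecResidueField]
  exact fun y => (h y).geometrically_isReduced

/-- A flat proper morphism of finite presentation: the number of geometric connected components is constant
near a point whose fibre is geometrically reduced. -/
theorem const_nhd_of_flat {X Y : Scheme.{u}} (f : X ⟶ Y) [IsProper f] [Flat f] [LocallyOfFinitePresentation f]
    (y : Y) (hred : GeometricallyReduced (f.fiberToSpecResidueField y)) :
    ∃ V ∈ nhds y, ∀ z ∈ V, MoreMor.nGeomConnComp f z = MoreMor.nGeomConnComp f y := by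
  let W : Y.Opens := ⟨{y : Y | GeometricallyReduced (f.fiberToSpecResidueField y)}, S0435.result f⟩
  let f' := pullback.snd f W.ι
  have sq : IsPullback (pullback.fst f W.ι) f' f W.ι := IsPullback.of_hasPullback _ _
  have h1 : GeometricallyReduced f' := geometricallyReduced_of_fiber f' fun w =>
    geometricallyReduced_fiber sq w w.2
  have h2 := (IsLocallyConstant.iff_exists_open _).mp (S1364.result f') ⟨y, hred⟩
  obtain ⟨U, hU, hyU, h3⟩ := h2
  refine ⟨W.ι '' U, (W.ι.isOpenEmbedding.isOpenMap _ hU).mem_nhds ⟨_, hyU, rfl⟩, ?_⟩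
  rintro _ ⟨z, hz, rfl⟩
  exact (Flat2D.GeomFib.nGeomConnComp_baseChange f f' _ _ sq z).symm.trans
    ((h3 z hz).trans (Flat2D.GeomFib.nGeomConnComp_baseChange f f' _ _ sq ⟨y, hred⟩))

/-- A proper morphism over a reduced locally Noetherian base, universally open along a geometrically reduced
fibre, is flat over a neighbourhood. -/
theorem exists_flat_nhd {X Y : Scheme.{u}} [IsLocallyNoetherian Y] [IsReduced Y]
    (f : X ⟶ Y) [IsProper f] (y : Y) (h : ∀ x : X, f x = y → EGA43.IsUnivOpenAt f x)
    (hred : GeometricallyReduced (f.fiberToSpecResidueField y)) :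
    ∃ V : Y.Opens, y ∈ V ∧ Flat (pullback.snd f V.ι) := by
  have h1 : ∀ x : X, f x = y → (f.stalkMap x).hom.Flat := by
    rintro x rfl
    refine S2561.result f x (fun z _ _ => h _ ?_) (isGeomReducedAt _ hred _) inferInstance
    have h2 : f.fiberι (f.base x) z ∈ Set.range (f.fiberι (f.base x)) := ⟨z, rfl⟩
    rw [Scheme.Hom.range_fiberι] at h2
    exact h2
  have hfp : LocallyOfFinitePresentation f :=
    LocallyOfFinitePresentation.iff_locallyOfFiniteType.mpr inferInstance
  have h2 := S0386.result f
  refine ⟨⟨(f '' {x | (f.stalkMap x).hom.Flat}ᶜ)ᶜ, (f.isClosedMap _ h2.isClosed_compl).isOpen_compl⟩, ?_, ?_⟩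
  · rintro ⟨x, hx, hxy⟩
    exact hx (h1 x hxy)
  · refine flat_of_isPullback f _ fun x hx => ?_
    by_contra h3
    exact hx ⟨x, h3, rfl⟩

theorem const_nhd_of_isReduced {X Y : Scheme.{u}} [IsLocallyNoetherian Y] [IsReduced Y]
    (f : X ⟶ Y) [IsProper f] (y : Y) (h : ∀ x : X, f x = y → EGA43.IsUnivOpenAt f x)
    (hred : GeometricallyReduced (f.fiberToSpecResidueField y)) :
    ∃ V ∈ nhds y, ∀ z ∈ V, MoreMor.nGeomConnComp f z = MoreMor.nGeomConnComp f y := by
  obtain ⟨V, hyV, hV⟩ := exists_flat_nhd f y h hred
  let f' := pullback.snd f V.ι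
  have sq : IsPullback (pullback.fst f V.ι) f' f V.ι := IsPullback.of_hasPullback _ _
  have hfp : LocallyOfFinitePresentation f :=
    LocallyOfFinitePresentation.iff_locallyOfFiniteType.mpr inferInstance
  have h1 : GeometricallyReduced (f'.fiberToSpecResidueField ⟨y, hyV⟩) := geometricallyReduced_fiber sq _ hred
  obtain ⟨U, hU, h3⟩ := const_nhd_of_flat f' ⟨y, hyV⟩ h1
  refine ⟨V.ι '' U, V.ι.isOpenEmbedding.isOpenMap.image_mem_nhds hU, ?_⟩
  rintro _ ⟨z, hz, rfl⟩
  exact (Flat2D.GeomFib.nGeomConnComp_baseChange f f' _ _ sq z).symm.trans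
    ((h3 z hz).trans (Flat2D.GeomFib.nGeomConnComp_baseChange f f' _ _ sq ⟨y, hyV⟩))

theorem exists_reduced (X : Scheme.{u}) : ∃ (X' : Scheme.{u}) (i : X' ⟶ X), IsReduced X' ∧
    IsClosedImmersion i ∧ Surjective i := by
  refine ⟨X.nilradical.subscheme, X.nilradical.subschemeι,
    Ega1.ReducedSub.isReduced_subscheme_radical _, inferInstance, ?_⟩
  rw [surjective_iff, ← Set.range_eq_univ, Scheme.IdealSheafData.range_subschemeι,
    Scheme.support_nilradical]
  rfl

theorem const_nhd {X Y : Scheme.{u}} [IsLocallyNoetherian Y]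
    (f : X ⟶ Y) [IsProper f] (y : Y) (h : ∀ x : X, f x = y → EGA43.IsUnivOpenAt f x)
    (hred : GeometricallyReduced (f.fiberToSpecResidueField y)) :
    ∃ V ∈ nhds y, ∀ z ∈ V, MoreMor.nGeomConnComp f z = MoreMor.nGeomConnComp f y := by
  obtain ⟨Y', i, hY', hi, hs⟩ := exists_reduced Y
  have hN : IsLocallyNoetherian Y' := LocallyOfFiniteType.isLocallyNoetherian i
  let f' := pullback.snd f i
  have sq : IsPullback (pullback.fst f i) f' f i := IsPullback.of_hasPullback _ _
  obtain ⟨y', rfl⟩ := i.surjective y
  have h1 : GeometricallyReduced (f'.fiberToSpecResidueField y') := geometricallyReduced_fiber sq _ hred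
  obtain ⟨U, hU, h3⟩ := const_nhd_of_isReduced f' y' (fun x hx =>
    Ega43.UnivOpenAt.isUnivOpenAt_of_isPullback (h (pullback.fst f i x) (by
      rw [← Scheme.Hom.comp_apply, pullback.condition, Scheme.Hom.comp_apply]
      exact congrArg i hx)) sq x rfl) h1
  have he : IsHomeomorph i := by
    refine ⟨i.continuous, ?_, i.isClosedEmbedding.injective, i.surjective⟩
    exact ((Equiv.ofBijective i ⟨i.isClosedEmbedding.injective, i.surjective⟩).toHomeomorphOfIsInducing
      i.isClosedEmbedding.isInducing).isOpenMap
  refine ⟨i '' U, he.isOpenMap.image_mem_nhds hU, ?_⟩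
  rintro _ ⟨z, hz, rfl⟩
  have h4 := h3 z hz
  rw [Flat2D.GeomFib.nGeomConnComp_baseChange f f' _ _ sq, Flat2D.GeomFib.nGeomConnComp_baseChange f f' _ _ sq] at h4
  exact h4

end Groth.Agent.Ega4fib.H137.ConstNhd
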